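import Groth.Agent.Lib.MultType.Family
import Groth.Agent.Lib.MultType.AdicConn
import Groth.Agent.Lib.MultType.Split

/-!
# Connected base: constant type, connected finite etale covers
-/

universe u

open TensorProduct

namespace Groth.Agent.MTDual29

open MultTypeLib

variable {R : Type u} [CommRing R]

theorem nontrivial_of_connected [ConnectedSpace (PrimeSpectrum R)] : Nontrivial R :=
  PrimeSpectrum.nonempty_iff_nontrivial.1 inferInstance

theorem connectedSpace_of_idem {S : Type u} [CommRing S] [Nontrivial S]
    (h : ∀ e : S, IsIdempotentElem e → e = 0 ∨ e = 1) : ConnectedSpace (PrimeSpectrum S) := by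
  refine connectedSpace_iff_clopen.2 ⟨inferInstance, fun s hs => ?_⟩
  obtain ⟨e, he, rfl⟩ := PrimeSpectrum.isClopen_iff.1 hs
  rcases h e he with rfl | rfl
  · exact Or.inl (by simp)
  · exact Or.inr (by simp)

theorem exists_isDiag_of_connected [ConnectedSpace (PrimeSpectrum R)] {A : Type u} [CommRing A]
    [HopfAlgebra R A] (h : SGA3b.IsMultType R A) :
    ∃ (U : Type u) (_ : CommRing U) (_ : Algebra R U) (_ : Module.FaithfullyFlat R U),
      SGA3b.IsDiag U (U ⊗[R] A) := by
  classical
  have := nontrivial_of_connected (R := R)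
  obtain ⟨ι, _, T, _, _, _, hP, hd⟩ := exists_split_family h
  choose M iM he using hd
  have := Fintype.ofFinite ι
  let P := Π i, T i
  have : Nontrivial P := (FaithfulSMul.algebraMap_injective R P).nontrivial
  obtain ⟨i₀, hi₀⟩ : ∃ i, Nontrivial (T i) := by
    by_contra hcon
    push Not at hcon
    exact not_subsingleton P inferInstance
  let S : ι → Prop := fun k => Nonempty (M i₀ ≃* M k)
  let u : P := fun k => if S k then 1 else 0
  obtain ⟨e, he'⟩ := exists_one_tmul_of_descent (B := R) (R' := P) (u ⊗ₜ[R] (1 : R)) (by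
    simp only [Algebra.TensorProduct.map_tmul, Algebra.TensorProduct.includeLeft_apply,
      Algebra.TensorProduct.includeRight_apply, AlgHom.id_apply]
    congr 1
    refine pi_tensor_ext fun k => ?_
    simp only [LinearMap.rTensor_tmul, LinearMap.proj_apply, Pi.one_apply]
    refine (TensorProduct.comm R (T k) P).injective ?_
    refine pi_tensor_ext fun l => ?_
    rcases subsingleton_or_nontrivial (T k ⊗[R] T l) with h | h
    · exact (TensorProduct.comm R (T l) (T k)).injective (Subsingleton.elim _ _)
    · obtain ⟨a⟩ := he k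
      obtain ⟨b⟩ := he l
      obtain ⟨c⟩ := nonempty_mulEquiv_of_nontrivial a b
      have : S k ↔ S l := ⟨fun ⟨d⟩ => ⟨d.trans c⟩, fun ⟨d⟩ => ⟨d.trans c.symm⟩⟩
      show (1 : T l) ⊗ₜ[R] (if S k then (1 : T k) else 0) =
        (if S l then (1 : T l) else 0) ⊗ₜ[R] (1 : T k)
      simp only [this]
      split_ifs <;> simp)
  have heP : algebraMap R P e = u := by
    have h1 := congrArg (TensorProduct.rid R P) he'
    simp only [TensorProduct.rid_tmul] at h1
    rwa [one_smul, ← Algebra.algebraMap_eq_smul_one] at h1
  have hid : IsIdempotentElem e := FaithfulSMul.algebraMap_injective R P (by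
    rw [map_mul, heP]
    funext k
    show u k * u k = u k
    simp only [u]
    split_ifs <;> simp)
  have hS : ∀ k, Nontrivial (T k) → S k := fun k hk => by
    rcases eq_zero_or_one_of_connected hid with rfl | rfl
    · exfalso
      have h1 := congrFun heP i₀
      rw [map_zero] at h1
      change (0 : T i₀) = if S i₀ then 1 else 0 at h1
      rw [if_pos (show S i₀ from ⟨MulEquiv.refl _⟩)] at h1
      exact zero_ne_one h1
    · have h1 := congrFun heP k
      rw [map_one] at h1
      change (1 : T k) = if S k then 1 else 0 at h1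
      by_contra hSk
      rw [if_neg hSk] at h1
      exact one_ne_zero h1
  let κ := {k // Nontrivial (T k)}
  let V : κ → Type u := fun k => T k.1
  have hff : Module.FaithfullyFlat R (Π k, V k) := by
    refine faithfullyFlat_pi V fun p => ?_
    obtain ⟨Q, hQ⟩ := PrimeSpectrum.comap_surjective_of_faithfullyFlat (A := R) (B := P) p
    obtain ⟨k, ψ, hψ⟩ := exists_proj_of_field (K := Q.asIdeal.ResidueField)
      (IsScalarTower.toAlgHom R P Q.asIdeal.ResidueField)
    refine ⟨⟨k, ψ.toRingHom.domain_nontrivial⟩, ⟨RingHom.ker ψ, RingHom.ker_isPrime _⟩, ?_⟩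
    rw [← hQ]
    ext r
    show ψ (algebraMap R (T k) r) = 0 ↔ algebraMap R P r ∈ Q.asIdeal
    rw [AlgHom.commutes, IsScalarTower.algebraMap_apply R P Q.asIdeal.ResidueField,
      Ideal.algebraMap_residueField_eq_zero]
  refine ⟨Π k, V k, inferInstance, inferInstance, hff, isDiag_pi (M i₀) fun k => ?_⟩
  exact (Classical.choice (he k.1)).trans (mapDomainEquiv (V k) (Classical.choice (hS k.1 k.2)).symm)

theorem faithfullyFlat_of_etale [ConnectedSpace (PrimeSpectrum R)] (T : Type u) [CommRing T]
    [Algebra R T] [Module.Finite R T] [Algebra.Etale R T] [Nontrivial T] :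
    Module.FaithfullyFlat R T := by
  have : Module.FinitePresentation R T := Module.FinitePresentation.of_finite_of_finitePresentation R T
  refine Module.FaithfullyFlat.of_comap_surjective
    (PrimeSpectrum.rankAtStalk_pos_iff_comap_surjective.1 fun p => ?_)
  have h0 : ∀ q, Module.rankAtStalk (R := R) T q = Module.rankAtStalk T p := fun q =>
    Module.isLocallyConstant_rankAtStalk.apply_eq_of_preconnectedSpace q p
  by_contra hp
  refine not_subsingleton T ((Module.rankAtStalk_eq_zero_iff_subsingleton (R := R)).1 (funext fun q => ?_))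
  rw [h0 q]
  exact Nat.eq_zero_of_not_pos hp

theorem etale_quot_idem {T : Type u} [CommRing T] [Algebra R T] [Algebra.Etale R T] {f : T}
    (hf : IsIdempotentElem f) : Algebra.Etale R (T ⧸ Ideal.span {f}) := by
  have : IsLocalization.Away (1 - f) (T ⧸ Ideal.span {f}) :=
    IsLocalization.away_of_isIdempotentElem hf.one_sub
      (by rw [sub_sub_cancel]; exact Ideal.mk_ker) Ideal.Quotient.mk_surjective
  have : Algebra.Etale T (T ⧸ Ideal.span {f}) := Algebra.Etale.of_isLocalizationAway (1 - f)
  exact Algebra.Etale.comp R T (T ⧸ Ideal.span {f})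

theorem nontrivial_quot_idem {T : Type u} [CommRing T] {f : T} (hf : IsIdempotentElem f)
    (h1 : f ≠ 1) : Nontrivial (T ⧸ Ideal.span {f}) := by
  refine Ideal.Quotient.nontrivial_iff.2 fun h => h1 ?_
  exact (IsIdempotentElem.iff_eq_one_of_isUnit (Ideal.span_singleton_eq_top.1 h)).1 hf

/-- A nonzero finite etale algebra over a connected ring maps to a connected one. -/
theorem exists_connected_component [ConnectedSpace (PrimeSpectrum R)] (T : Type u) [CommRing T]
    [Algebra R T] [Module.Finite R T] [Algebra.Etale R T] [Nontrivial T] :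
    ∃ (T' : Type u) (_ : CommRing T') (_ : Algebra R T') (_ : Module.Finite R T')
      (_ : Algebra.Etale R T') (_ : Module.FaithfullyFlat R T')
      (_ : ConnectedSpace (PrimeSpectrum T')), Nonempty (T →ₐ[R] T') := by
  have := nontrivial_of_connected (R := R)
  obtain ⟨p⟩ := (inferInstance : Nonempty (PrimeSpectrum R))
  generalize hn : Module.rankAtStalk (R := R) T p = n
  induction n using Nat.strong_induction_on generalizing T with
  | _ n ih =>
    by_cases hc : ∀ e : T, IsIdempotentElem e → e = 0 ∨ e = 1
    · exact ⟨T, inferInstance, inferInstance, inferInstance, inferInstance,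
        faithfullyFlat_of_etale T, connectedSpace_of_idem hc, ⟨AlgHom.id R T⟩⟩
    push Not at hc
    obtain ⟨f, hf, hf0, hf1⟩ := hc
    have hg : IsIdempotentElem (1 - f) := hf.one_sub
    have := etale_quot_idem (R := R) hf
    have := etale_quot_idem (R := R) hg
    have := nontrivial_quot_idem hf hf1
    have := nontrivial_quot_idem hg (fun h => hf0 (by linear_combination -h))
    let e := AlgEquiv.prodQuotientOfIsIdempotentElem R hf hg (by ring)
      (by rw [mul_sub, mul_one, hf.eq, sub_self])
    have : Module.Finite R (T ⧸ Ideal.span {f}) :=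
      Module.Finite.of_surjective (Ideal.Quotient.mkₐ R _).toLinearMap Ideal.Quotient.mk_surjective
    have : Module.Finite R (T ⧸ Ideal.span {1 - f}) :=
      Module.Finite.of_surjective (Ideal.Quotient.mkₐ R _).toLinearMap Ideal.Quotient.mk_surjective
    have h1 : 0 < Module.rankAtStalk (R := R) (T ⧸ Ideal.span {1 - f}) p := by
      have := faithfullyFlat_of_etale (R := R) (T ⧸ Ideal.span {1 - f})
      exact PrimeSpectrum.rankAtStalk_pos_iff_comap_surjective.2
        PrimeSpectrum.comap_surjective_of_faithfullyFlat p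
    have h2 : n = Module.rankAtStalk (R := R) (T ⧸ Ideal.span {f}) p +
        Module.rankAtStalk (R := R) (T ⧸ Ideal.span {1 - f}) p := by
      rw [← hn, Module.rankAtStalk_eq_of_equiv e.toLinearEquiv, Module.rankAtStalk_prod]
      rfl
    obtain ⟨T', i1, i2, i3, i4, i5, i6, ⟨φ⟩⟩ := ih _ (by omega) (T ⧸ Ideal.span {f}) rfl
    exact ⟨T', i1, i2, i3, i4, i5, i6, ⟨φ.comp (Ideal.Quotient.mkₐ R _)⟩⟩

end Groth.Agent.MTDual29
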