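import Groth.Agent.Lib.MTDual29.Pair
import Groth.Agent.Lib.MTDual29.Conn
import Groth.Agent.Lib.MultType.QuasiIso

/-!
# Etale dual over a connected base implies isotrivial
-/

universe u

open TensorProduct

namespace Groth.Agent.MTDual29

variable {R : Type u} [CommRing R] {A : Type u} [CommRing A] [HopfAlgebra R A]
  [Module.Finite R A] [Module.Projective R A] [Coalgebra.IsCocomm R A]

theorem isDiag_of_split_dual {T : Type u} [CommRing T] [Algebra R T]
    [ConnectedSpace (PrimeSpectrum T)] {n : ℕ}
    (ε : T ⊗[R] CartDual.D R A ≃ₐ[T] (Fin n → T)) : SGA3b.IsDiag T (T ⊗[R] A) := by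
  classical
  have := nontrivial_of_connected (R := T)
  obtain ⟨m, x, a, hxa⟩ := exists_coord R A
  let g : Fin n → T ⊗[R] A := fun i =>
    ∑ k, ε ((1 : T) ⊗ₜ[R] x k) i • ((1 : T) ⊗ₜ[R] a k)
  have hg : ∀ w i, pair R A T w (g i) = ε w i := by
    intro w i
    conv_rhs => rw [← pair_expand hxa w]
    simp only [g, map_sum, map_smul, Finset.sum_apply]
    refine Finset.sum_congr rfl fun k _ => ?_
    generalize pair R A T w ((1 : T) ⊗ₜ[R] a k) = c
    rw [show c ⊗ₜ[R] x k = c • ((1 : T) ⊗ₜ[R] x k) by rw [TensorProduct.smul_tmul', smul_eq_mul,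
      mul_one], map_smul, Pi.smul_apply, smul_eq_mul, smul_eq_mul, mul_comm]
  have hev : ∀ y z, ev R A T y z = pair R A T ((1 : T) ⊗ₜ[R] y) z := fun y z => by simp
  have hgl : ∀ i, IsGroupLikeElem T (g i) := fun i => by
    refine ⟨?_, ?_⟩
    · rw [← ev_one, hev, hg]
      exact congrFun (map_one ε) i
    · rw [← expand₂ hxa (Coalgebra.comul (g i)), ← expand₂ hxa (g i ⊗ₜ[T] g i)]
      refine Finset.sum_congr rfl fun k _ => Finset.sum_congr rfl fun l _ => ?_
      rw [← ev_mul, TensorProduct.map_tmul, LinearMap.mul'_apply, hev, hev, hev, hg, hg, hg,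
        ← Pi.mul_apply, ← map_mul, Algebra.TensorProduct.tmul_mul_tmul, one_mul]
  have hext : ∀ z z', (∀ w, pair R A T w z = pair R A T w z') → z = z' := fun z z' h => by
    rw [← expand hxa z, ← expand hxa z']
    simp only [hev, h]
  have huniq : ∀ z, IsGroupLikeElem T z → ∃ j, z = g j := fun z hz => by
    let φ : (Fin n → T) →ₐ[T] T := (pairAlg hz).comp ε.symm.toAlgHom
    obtain ⟨j, hj⟩ : ∃ j, φ (Pi.single j 1) = 1 := by
      by_contra hcon
      push Not at hcon
      have h0 : ∀ j, φ (Pi.single j 1) = 0 := fun j =>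
        (MultTypeLib.eq_zero_or_one_of_connected (show IsIdempotentElem (φ (Pi.single j 1)) from by
          rw [IsIdempotentElem, ← map_mul, ← Pi.single_mul, one_mul])).resolve_right (hcon j)
      have h1 : φ (∑ j, Pi.single j 1) = 0 := by simp [map_sum, h0]
      rw [show (∑ j, Pi.single j (1 : T)) = (1 : Fin n → T) from
        Finset.univ_sum_single (1 : Fin n → T), map_one] at h1
      exact one_ne_zero h1
    refine ⟨j, hext _ _ fun w => ?_⟩
    have h1 : φ (ε w) = ε w j := by
      calc φ (ε w) = φ (ε w * Pi.single j 1) := by rw [map_mul, hj, mul_one]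
        _ = φ (ε w j • Pi.single j 1) := by
          congr 1
          funext i
          rcases eq_or_ne i j with rfl | hij
          · simp
          · simp [hij]
        _ = ε w j := by rw [map_smul, hj, smul_eq_mul, mul_one]
    rw [hg, ← h1]
    simp [φ, pairAlg_apply]
  let G := GroupLike T (T ⊗[R] A)
  let Φ := MultTypeLib.bialgOfGlike (MonoidHom.id G)
  let γ : Fin n → G := fun i => ⟨g i, hgl i⟩
  have hΦ : ∀ (z : G) (r : T), Φ (MonoidAlgebra.single z r) = r • z.val := fun z r => by
    rw [show MonoidAlgebra.single z r = r • MonoidAlgebra.single z (1 : T) by simp, map_smul,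
      MultTypeLib.bialgOfGlike_single]
    rfl
  have hd : ∀ i j, pair R A T (ε.symm (Pi.single i 1)) (g j) = (Pi.single i (1 : T) : Fin n → T) j :=
    fun i j => by rw [hg, ε.apply_symm_apply]
  have hcoef : ∀ (y : MonoidAlgebra T G) i,
      pair R A T (ε.symm (Pi.single i 1)) (Φ y) = y.coeff (γ i) := fun y i => by
    induction y using MonoidAlgebra.induction_linear with
    | zero => simp
    | add p q hp hq => simp [map_add, hp, hq]
    | single z r =>
      obtain ⟨j, hj⟩ := huniq z.val z.2
      obtain rfl : z = γ j := GroupLike.val_injective hj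
      rw [hΦ, map_smul, show (γ j).val = g j from rfl, hd, smul_eq_mul, MonoidAlgebra.coeff_single,
        Finsupp.single_apply]
      have hinj : γ j = γ i ↔ j = i := by
        refine ⟨fun h => ?_, fun h => h ▸ rfl⟩
        have h2 := hd i i
        rw [show g i = g j from congrArg GroupLike.val h.symm, hd] at h2
        by_contra hne
        simp [Pi.single_eq_of_ne hne] at h2
      rcases eq_or_ne j i with rfl | hne
      · simp
      · rw [if_neg (fun h => hne (hinj.1 h)), Pi.single_eq_of_ne hne, mul_zero]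
  refine ⟨G, inferInstance, ⟨(BialgEquiv.ofBijective Φ ⟨?_, fun z => ?_⟩).symm⟩⟩
  · intro y y' h
    refine MonoidAlgebra.coeff_injective (Finsupp.ext fun z => ?_)
    obtain ⟨j, hj⟩ := huniq z.val z.2
    obtain rfl : z = γ j := GroupLike.val_injective hj
    rw [← hcoef, ← hcoef, h]
  · refine ⟨∑ i, MonoidAlgebra.single (γ i) (pair R A T (ε.symm (Pi.single i 1)) z), hext _ _ fun w => ?_⟩
    have hw : w = ∑ i, ε w i • ε.symm (Pi.single i 1) := by
      apply ε.injective
      funext k
      simp [map_sum, map_smul, Finset.sum_apply, Pi.single_apply]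
    conv_rhs => rw [hw]
    simp only [map_sum, hΦ, map_smul, LinearMap.sum_apply, LinearMap.smul_apply, smul_eq_mul]
    refine Finset.sum_congr rfl fun i _ => ?_
    rw [show (γ i).val = g i from rfl, hg, mul_comm]

theorem isIsotrivial_of_etale_dual [ConnectedSpace (PrimeSpectrum R)]
    [Algebra.Etale R (CartDual.D R A)] : SGA3b.IsIsotrivial R A := by
  have := nontrivial_of_connected (R := R)
  obtain ⟨p⟩ := (inferInstance : Nonempty (PrimeSpectrum R))
  have : Module.FinitePresentation R (CartDual.D R A) := Module.finitePresentation_of_projective R _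
  obtain ⟨T, _, _, _, _, _, hT⟩ := Algebra.IsFiniteSplit.exists_tensorProduct_of_etale
    (R := R) (S := CartDual.D R A) (n := Module.rankAtStalk (R := R) (CartDual.D R A) p)
    (funext fun q => by
      rw [Pi.natCast_apply, Nat.cast_id]
      exact Module.isLocallyConstant_rankAtStalk.apply_eq_of_preconnectedSpace q p)
  have : Nontrivial T := (FaithfulSMul.algebraMap_injective R T).nontrivial
  obtain ⟨T', i1, i2, i3, i4, i5, i6, ⟨φ⟩⟩ := exists_connected_component (R := R) T
  letI : Algebra T T' := φ.toRingHom.toAlgebra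
  have : IsScalarTower R T T' := IsScalarTower.of_algebraMap_eq fun r => (φ.commutes r).symm
  have hsplit : Algebra.IsFiniteSplit T' (T' ⊗[R] CartDual.D R A) :=
    Algebra.IsFiniteSplit.of_algEquiv
      (Algebra.TensorProduct.cancelBaseChange R T T' T' (CartDual.D R A))
  obtain ⟨n, ⟨ε⟩⟩ := hsplit.nonempty_algEquiv_fun
  exact ⟨T', i1, i2, i4, i3, i5, isDiag_of_split_dual ε⟩

end Groth.Agent.MTDual29
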