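import Mathlib
import Groth.Prelude.Def_SGA3b
import Groth.Prelude.Def_CartDual

/-!
# The pairing between `U ⊗ A` and `U ⊗ D(A)` and its dual bases
-/

universe u

open TensorProduct

namespace Groth.Agent.MTDual29

variable (R : Type u) [CommRing R] (A : Type u) [CommRing A] [HopfAlgebra R A]
  (U : Type u) [CommRing U] [Algebra R U]

/-- Evaluation of a linear form after base change. -/
noncomputable def ev : CartDual.D R A →ₗ[R] (U ⊗[R] A →ₗ[U] U) where
  toFun x := LinearMap.liftBaseChange U ((Algebra.linearMap R U) ∘ₗ x.ofConv)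
  map_add' x y := by
    refine TensorProduct.AlgebraTensorModule.ext fun u a => ?_
    simp [mul_add]
  map_smul' r x := by
    refine TensorProduct.AlgebraTensorModule.ext fun u a => ?_
    simp [Algebra.smul_def, mul_left_comm]

variable {R A U}

@[simp] theorem ev_tmul (x : CartDual.D R A) (u : U) (a : A) :
    ev R A U x (u ⊗ₜ[R] a) = u * algebraMap R U (x.ofConv a) := by
  simp [ev]

variable (R A U) in
/-- The pairing. -/
noncomputable def pair : U ⊗[R] CartDual.D R A →ₗ[U] (U ⊗[R] A →ₗ[U] U) :=
  LinearMap.liftBaseChange U (ev R A U)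

@[simp] theorem pair_tmul (u : U) (x : CartDual.D R A) (z : U ⊗[R] A) :
    pair R A U (u ⊗ₜ[R] x) z = u * ev R A U x z := by
  simp [pair]

theorem ev_one (z : U ⊗[R] A) :
    ev R A U 1 z = Coalgebra.counit (R := U) z := by
  induction z using TensorProduct.induction_on with
  | zero => simp
  | tmul u a => simp [LinearMap.convOne_def, Algebra.smul_def, mul_comm]
  | add p q hp hq => simp [map_add, hp, hq]

theorem convMul_repr (x y : CartDual.D R A) (a : A) :
    (x * y).ofConv a = ∑ i ∈ (Coalgebra.Repr.arbitrary R a).index,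
      x.ofConv ((Coalgebra.Repr.arbitrary R a).left i) *
        y.ofConv ((Coalgebra.Repr.arbitrary R a).right i) := by
  rw [LinearMap.convMul_def, WithConv.ofConv_toConv]
  simp [← (Coalgebra.Repr.arbitrary R a).eq]

theorem ev_mul (x y : CartDual.D R A) (z : U ⊗[R] A) :
    ev R A U (x * y) z =
      LinearMap.mul' U U (TensorProduct.map (ev R A U x) (ev R A U y) (Coalgebra.comul z)) := by
  induction z using TensorProduct.induction_on with
  | zero => simp
  | tmul u a =>
    have h : u ⊗ₜ[R] a = u • ((1 : U) ⊗ₜ[R] a) := by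
      rw [TensorProduct.smul_tmul', smul_eq_mul, mul_one]
    rw [h, map_smul, map_smul, map_smul, map_smul]
    congr 1
    simp [convMul_repr, ← (Coalgebra.Repr.arbitrary R a).eq, TensorProduct.tmul_sum]
  | add p q hp hq => simp [map_add, hp, hq]

theorem ev_mul_glike (x y : CartDual.D R A) {g : U ⊗[R] A} (hg : IsGroupLikeElem U g) :
    ev R A U (x * y) g = ev R A U x g * ev R A U y g := by
  rw [ev_mul, hg.comul_eq_tmul_self, TensorProduct.map_tmul, LinearMap.mul'_apply]

section Coord

variable (R A)

theorem exists_coord [Module.Finite R A] [Module.Projective R A] :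
    ∃ (n : ℕ) (x : Fin n → CartDual.D R A) (a : Fin n → A),
      ∀ b : A, ∑ k, (x k).ofConv b • a k = b := by
  obtain ⟨n, f, g, -, -, hfg⟩ := Module.Finite.exists_comp_eq_id_of_projective R A
  classical
  refine ⟨n, fun k => WithConv.toConv (LinearMap.proj k ∘ₗ g), fun k => f (Pi.single k 1), fun b => ?_⟩
  conv_rhs => rw [← show f (g b) = b from congr($hfg b), pi_eq_sum_univ' (g b)]
  simp [map_sum]

variable {R A}
variable {n : ℕ} {x : Fin n → CartDual.D R A} {a : Fin n → A}
  (hxa : ∀ b : A, ∑ k, (x k).ofConv b • a k = b)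
include hxa

theorem dual_expand (y : CartDual.D R A) : ∑ k, y.ofConv (a k) • x k = y := by
  apply WithConv.ext
  refine LinearMap.ext fun b => ?_
  conv_rhs => rw [← hxa b]
  simp only [map_sum, map_smul, WithConv.ofConv_sum, WithConv.ofConv_smul,
    LinearMap.sum_apply, LinearMap.smul_apply, smul_eq_mul]
  exact Finset.sum_congr rfl fun k _ => mul_comm _ _

theorem expand (z : U ⊗[R] A) : ∑ k, ev R A U (x k) z • ((1 : U) ⊗ₜ[R] a k) = z := by
  induction z using TensorProduct.induction_on with
  | zero => simp
  | tmul u b =>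
    conv_rhs => rw [← hxa b, TensorProduct.tmul_sum]
    refine Finset.sum_congr rfl fun k _ => ?_
    rw [ev_tmul, TensorProduct.smul_tmul', smul_eq_mul, mul_one, mul_comm, ← Algebra.smul_def,
      TensorProduct.smul_tmul]
  | add p q hp hq => simp only [map_add, add_smul, Finset.sum_add_distrib, hp, hq]

theorem pair_expand (w : U ⊗[R] CartDual.D R A) :
    ∑ k, pair R A U w ((1 : U) ⊗ₜ[R] a k) ⊗ₜ[R] x k = w := by
  induction w using TensorProduct.induction_on with
  | zero => simp
  | tmul u y =>
    conv_rhs => rw [← dual_expand hxa y, TensorProduct.tmul_sum]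
    refine Finset.sum_congr rfl fun k _ => ?_
    rw [pair_tmul, ev_tmul, one_mul, mul_comm, ← Algebra.smul_def, TensorProduct.smul_tmul]
  | add p q hp hq =>
    simp only [map_add, LinearMap.add_apply, TensorProduct.add_tmul, Finset.sum_add_distrib, hp, hq]

theorem expand₂ (w : (U ⊗[R] A) ⊗[U] (U ⊗[R] A)) :
    ∑ k, ∑ l, LinearMap.mul' U U (TensorProduct.map (ev R A U (x k)) (ev R A U (x l)) w) •
      (((1 : U) ⊗ₜ[R] a k) ⊗ₜ[U] ((1 : U) ⊗ₜ[R] a l)) = w := by
  induction w using TensorProduct.induction_on with
  | zero => simp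
  | tmul p q =>
    conv_rhs => rw [← expand hxa p, ← expand hxa q, TensorProduct.sum_tmul]
    refine Finset.sum_congr rfl fun k _ => ?_
    rw [TensorProduct.tmul_sum]
    refine Finset.sum_congr rfl fun l _ => ?_
    rw [TensorProduct.map_tmul, LinearMap.mul'_apply, TensorProduct.tmul_smul,
      ← TensorProduct.smul_tmul', smul_smul, mul_comm]
  | add p q hp hq => simp only [map_add, add_smul, Finset.sum_add_distrib, hp, hq]

end Coord

section Glike

variable [Coalgebra.IsCocomm R A]

/-- A group-like element of `U ⊗ A` as a point of `U ⊗ D`. -/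
noncomputable def evAlg {g : U ⊗[R] A} (hg : IsGroupLikeElem U g) : CartDual.D R A →ₐ[R] U :=
  AlgHom.ofLinearMap ((LinearMap.applyₗ g).restrictScalars R ∘ₗ ev R A U)
    (by simp [ev_one, hg.counit_eq_one])
    (fun x y => by simpa using ev_mul_glike x y hg)

noncomputable def pairAlg {g : U ⊗[R] A} (hg : IsGroupLikeElem U g) :
    U ⊗[R] CartDual.D R A →ₐ[U] U :=
  Algebra.TensorProduct.lift (Algebra.ofId U U) (evAlg hg) fun _ _ => Commute.all _ _

theorem pairAlg_apply {g : U ⊗[R] A} (hg : IsGroupLikeElem U g) (w : U ⊗[R] CartDual.D R A) :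
    pairAlg hg w = pair R A U w g := by
  induction w using TensorProduct.induction_on with
  | zero => simp
  | tmul u y => simp [pairAlg, evAlg]
  | add p q hp hq => simp only [map_add, hp, hq, LinearMap.add_apply]

end Glike

end Groth.Agent.MTDual29
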