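import Groth.Agent.Lib.MTDual29.Pair

/-!
# A finite Hopf algebra diagonalisable after a faithfully flat base change has etale dual
-/

universe u

open TensorProduct

namespace Groth.Agent.MTDual29

variable {R : Type u} [CommRing R] [Nontrivial R] {A : Type u} [CommRing A] [HopfAlgebra R A]
  [Module.Finite R A] {U : Type u} [CommRing U] [Algebra R U] [Module.FaithfullyFlat R U]
  {M : Type u} [CommGroup M] (e : U ⊗[R] A ≃ₐc[U] MonoidAlgebra U M)

/-- The underlying linear equivalence with finitely supported functions. -/
noncomputable def coeffEquiv : U ⊗[R] A ≃ₗ[U] (M →₀ U) :=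
  (e : U ⊗[R] A ≃ₐ[U] MonoidAlgebra U M).toLinearEquiv ≪≫ₗ MonoidAlgebra.coeffLinearEquiv U

include e in
theorem finite_group : Finite M := by
  have : Nontrivial U := (FaithfulSMul.algebraMap_injective R U).nontrivial
  have : Module.Finite U (M →₀ U) := Module.Finite.equiv (coeffEquiv e)
  exact Module.Finite.finite_basis (Finsupp.basisSingleOne (ι := M) (R := U))

include e in
theorem projective_of_split : Module.Projective R A := by
  have := finite_group e
  have : Module.Free U (U ⊗[R] A) := Module.Free.of_equiv (coeffEquiv e).symm
  have : Module.FinitePresentation U (U ⊗[R] A) := Module.finitePresentation_of_projective U _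
  have : Algebra.FinitePresentation U (U ⊗[R] A) := Algebra.FinitePresentation.of_finitePresentation U _
  have : Algebra.FinitePresentation R A :=
    Algebra.FinitePresentation.of_finitePresentation_tensorProduct_of_faithfullyFlat U
  have : Module.FinitePresentation R A := Module.FinitePresentation.of_finite_of_finitePresentation R A
  have : Module.Flat R A := Module.Flat.of_flat_tensorProduct R A U
  exact Module.Flat.projective_of_finitePresentation

include e in
omit [Module.Finite R A] [Nontrivial R] [Module.FaithfullyFlat R U] in
theorem comm_comul_baseChange (z : U ⊗[R] A) :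
    TensorProduct.comm U _ _ (Coalgebra.comul (R := U) z) = Coalgebra.comul z := by
  apply (TensorProduct.congr (e : U ⊗[R] A ≃ₗ[U] MonoidAlgebra U M)
    (e : U ⊗[R] A ≃ₗ[U] MonoidAlgebra U M)).injective
  have h1 : TensorProduct.congr (e : U ⊗[R] A ≃ₗ[U] MonoidAlgebra U M)
      (e : U ⊗[R] A ≃ₗ[U] MonoidAlgebra U M) (Coalgebra.comul (R := U) z) =
      Coalgebra.comul (R := U) (e z) := CoalgHomClass.map_comp_comul_apply e z
  rw [h1, ← Coalgebra.comm_comul U (e z), ← h1]
  generalize Coalgebra.comul (R := U) z = w
  induction w using TensorProduct.induction_on with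
  | zero => simp
  | tmul p q => simp
  | add p q hp hq => simp only [map_add, hp, hq]

include e in
omit [Module.Finite R A] [Nontrivial R] in
theorem cocomm_of_split : Coalgebra.IsCocomm R A := by
  refine ⟨LinearMap.ext fun a => ?_⟩
  apply Module.FaithfullyFlat.tensorProduct_mk_injective (A := R) (B := U) (A ⊗[R] A)
  apply (TensorProduct.AlgebraTensorModule.distribBaseChange R U A A).injective
  have key := comm_comul_baseChange e ((1 : U) ⊗ₜ[R] a)
  simp only [LinearMap.coe_comp, LinearEquiv.coe_coe, Function.comp_apply, TensorProduct.mk_apply]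
  simpa [← (Coalgebra.Repr.arbitrary R a).eq, TensorProduct.tmul_sum] using key

include e in
theorem etale_dual_of_split [Module.Projective R A] [Coalgebra.IsCocomm R A] :
    Algebra.Etale R (CartDual.D R A) := by
  classical
  have := finite_group e
  obtain ⟨n, x, a, hxa⟩ := exists_coord R A
  have hg : ∀ m : M, IsGroupLikeElem U (e.symm (MonoidAlgebra.single m 1)) := fun m =>
    (MonoidAlgebra.isGroupLikeElem_single_one (R := U) (A := U) m).map e.symm
  let Ψ : U ⊗[R] CartDual.D R A →ₐ[U] (M → U) :=
    AlgHom.pi fun m => pairAlg (hg m)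
  have hΨ : ∀ w m, Ψ w m = pair R A U w (e.symm (MonoidAlgebra.single m 1)) := fun w m =>
    pairAlg_apply (hg m) w
  have hb : Function.Bijective Ψ := by
    refine ⟨(injective_iff_map_eq_zero Ψ).2 fun w hw => ?_, fun f => ?_⟩
    · have h0 : ∀ z, pair R A U w z = 0 := fun z => by
        rw [← e.symm_apply_apply z]
        induction e z using MonoidAlgebra.induction_linear with
        | zero => simp
        | add p q hp hq => rw [map_add, map_add, hp, hq, add_zero]
        | single m r =>
          rw [show MonoidAlgebra.single m r = r • MonoidAlgebra.single m (1 : U) by simp, map_smul,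
            map_smul, ← hΨ, hw]
          simp
      rw [← pair_expand hxa w]
      simp [h0]
    · let F : U ⊗[R] A →ₗ[U] U := Finsupp.linearCombination U f ∘ₗ (coeffEquiv e).toLinearMap
      refine ⟨∑ k, F ((1 : U) ⊗ₜ[R] a k) ⊗ₜ[R] x k, funext fun m => ?_⟩
      rw [hΨ, map_sum, LinearMap.sum_apply]
      have h1 : F (e.symm (MonoidAlgebra.single m 1)) = f m := by
        simp [F, coeffEquiv]
      refine Eq.trans ?_ h1
      generalize e.symm (MonoidAlgebra.single m 1) = z
      conv_rhs => rw [← expand hxa z, map_sum]
      exact Finset.sum_congr rfl fun k _ => by rw [pair_tmul, map_smul, smul_eq_mul, mul_comm]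
  have : Algebra.Etale U (U ⊗[R] CartDual.D R A) :=
    Algebra.Etale.of_equiv (AlgEquiv.ofBijective Ψ hb).symm
  exact Algebra.Etale.of_etale_tensorProduct_of_faithfullyFlat U

end Groth.Agent.MTDual29
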